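import Mathlib
import Cfsg.Prelude.Def_CaseTheorems
import Cfsg.Agent.Lib.PGroup.DihedralWreath.Model

/-!
The wreath product of a dihedral group of order eight by a group of order two inside a `2`-group of
sectional rank at most four: centralisers, and the action of the normaliser on the base.
-/

set_option autoImplicit false
set_option linter.style.haveILetI false

namespace CfsgLib.PGroup.DihedralWreath

open Subgroup

variable {S : Type*} [Group S]

/-- A `2`-group of sectional rank at most four has no elementary abelian section of order `32`. -/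
theorem no_section [Finite S] (hr : Cfsg.SectionalPRankLE 2 4 S) (H N : Subgroup S) (hNH : N ≤ H)
    (hn : ∀ h ∈ H, ∀ x ∈ N, h * x * h⁻¹ ∈ N) (hc : ∀ u ∈ H, ∀ v ∈ H, u * v * u⁻¹ * v⁻¹ ∈ N)
    (hs : ∀ u ∈ H, u * u ∈ N) (h32 : 32 * Nat.card N ≤ Nat.card H) : False := by
  haveI : (N.subgroupOf H).Normal := ⟨fun x hx h => hn h h.2 x hx⟩
  have hcomm : IsMulCommutative (⊤ : Subgroup (H ⧸ N.subgroupOf H)) := ⟨⟨fun a b => by
    obtain ⟨u, hu⟩ := QuotientGroup.mk_surjective (a : H ⧸ N.subgroupOf H)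
    obtain ⟨v, hv⟩ := QuotientGroup.mk_surjective (b : H ⧸ N.subgroupOf H)
    apply Subtype.ext
    change (a : H ⧸ N.subgroupOf H) * b = b * a
    rw [← hu, ← hv, ← QuotientGroup.mk_mul, ← QuotientGroup.mk_mul, QuotientGroup.eq]
    change ((u : S) * v)⁻¹ * (v * u) ∈ N
    have := hc _ (inv_mem v.2) _ (inv_mem u.2)
    have h' : ((u : S) * v)⁻¹ * (v * u) = (v : S)⁻¹ * (u : S)⁻¹ * ((v : S)⁻¹)⁻¹ * ((u : S)⁻¹)⁻¹ := by
      group
    rw [h']; exact this⟩⟩
  have h := hr H (N.subgroupOf H) ⊤ hcomm (fun a _ => by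
    obtain ⟨u, rfl⟩ := QuotientGroup.mk_surjective a
    rw [pow_two, ← QuotientGroup.mk_mul, QuotientGroup.eq_one_iff]
    exact hs u u.2)
  rw [card_top] at h
  have h1 := card_eq_card_quotient_mul_card_subgroup (N.subgroupOf H)
  rw [Nat.card_congr (Subgroup.subgroupOfEquivOfLe hNH).toEquiv] at h1
  have : 0 < Nat.card N := Nat.card_pos
  nlinarith

variable (φ : W →* S)

theorem apply_mem {K : Subgroup W} (hinj : Function.Injective φ) {w : W} :
    φ w ∈ K.map φ ↔ w ∈ K :=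
  ⟨fun ⟨_, hv, he⟩ => hinj he ▸ hv, fun h => mem_map_of_mem φ h⟩

theorem card_image (hinj : Function.Injective φ) (K : Subgroup W) :
    Nat.card (K.map φ) = Nat.card K :=
  (Nat.card_congr (K.equivMapOfInjective φ hinj).toEquiv).symm

theorem conj_phi_eq (x : S) (p : W) (hp : p ∈ W.Phi)
    (h : ∀ b ∈ W.base, x * φ b * x⁻¹ * (φ b)⁻¹ ∈ W.Phi.map φ) : x * φ p * x⁻¹ = φ p := by
  have key : ∀ a : W, a ∈ W.base → x * φ (a * a) * x⁻¹ = φ (a * a) := by
    intro a ha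
    obtain ⟨c, hc, hce⟩ := h a ha
    have hconj : x * φ a * x⁻¹ = φ (c * a) := by rw [map_mul, hce, inv_mul_cancel_right]
    have e : x * φ (a * a) * x⁻¹ = φ (c * a * (c * a)) := by
      rw [map_mul, map_mul φ (c * a), ← hconj]; group
    rw [e]
    congr 1
    calc c * a * (c * a) = c * (a * c) * a := by simp only [mul_assoc]
      _ = c * (c * a) * a := by rw [W.phi_central c hc a ha]
      _ = a * a := by rw [← mul_assoc c c a, W.sq_Phi c hc, one_mul]
  obtain ⟨a, ha, b, hb, rfl⟩ : ∃ a : W, a ∈ W.base ∧ ∃ b : W, b ∈ W.base ∧ p = a * a * (b * b) := by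
    revert p; decide +kernel
  rw [map_mul]
  calc x * (φ (a * a) * φ (b * b)) * x⁻¹ = (x * φ (a * a) * x⁻¹) * (x * φ (b * b) * x⁻¹) := by group
    _ = _ := by rw [key a ha, key b hb]

variable {φ}

section rank

variable [Finite S] (hr : Cfsg.SectionalPRankLE 2 4 S) (hinj : Function.Injective φ)
include hr hinj

/-- An element acting trivially on the base modulo its centre, with square in that centre, is in the
base. -/
theorem mem_base_of_sq (x : S) (h : ∀ b ∈ W.base, x * φ b * x⁻¹ * (φ b)⁻¹ ∈ W.Phi.map φ)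
    (hx : x * x ∈ W.Phi.map φ) : x ∈ W.base.map φ := by
  by_contra hxB
  set B := W.base.map φ with hBdef
  set N := W.Phi.map φ with hNdef
  have hNB : N ≤ B := map_mono W.Phi_le_base
  have hBn : ∀ b ∈ B, x * b * x⁻¹ ∈ B := by
    rintro _ ⟨b, hb, rfl⟩
    have := mul_mem (hNB (h b hb)) (mem_map_of_mem φ hb)
    rwa [inv_mul_cancel_right] at this
  have hNc : ∀ n ∈ N, x * n = n * x := by
    rintro _ ⟨n, hn, rfl⟩
    exact mul_inv_eq_iff_eq_mul.1 (conj_phi_eq φ x n hn h)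
  have hinvB : ∀ b ∈ B, x⁻¹ * b * x ∈ B := fun b hb => by
    have e : x⁻¹ * b * x = (x * x)⁻¹ * (x * b * x⁻¹) * (x * x) := by group
    rw [e]
    exact mul_mem (mul_mem (inv_mem (hNB hx)) (hBn b hb)) (hNB hx)
  let H : Subgroup S :=
    { carrier := {y | ∃ b ∈ B, b = y ∨ b * x = y}
      one_mem' := ⟨1, one_mem B, Or.inl rfl⟩
      mul_mem' := by
        rintro _ _ ⟨b, hb, rfl | rfl⟩ ⟨c, hc, rfl | rfl⟩
        · exact ⟨_, mul_mem hb hc, Or.inl rfl⟩
        · exact ⟨_, mul_mem hb hc, Or.inr (mul_assoc _ _ _)⟩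
        · exact ⟨_, mul_mem hb (hBn c hc), Or.inr (by group)⟩
        · exact ⟨_, mul_mem (mul_mem hb (hBn c hc)) (hNB hx), Or.inl (by group)⟩
      inv_mem' := by
        rintro _ ⟨b, hb, rfl | rfl⟩
        · exact ⟨_, inv_mem hb, Or.inl rfl⟩
        · exact ⟨_, mul_mem (inv_mem (hNB hx)) (hBn _ (inv_mem hb)), Or.inr (by group)⟩ }
  have hBH : B ≤ H := fun b hb => ⟨b, hb, Or.inl rfl⟩
  have hxH : x ∈ H := ⟨1, one_mem B, Or.inr (one_mul x)⟩
  have hlt : 2 * Nat.card B ≤ Nat.card H := by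
    obtain ⟨k, hk⟩ := card_dvd_of_le hBH
    have : k ≠ 0 ∧ k ≠ 1 := ⟨fun h0 => by rw [h0, mul_zero] at hk; exact Nat.card_pos.ne' hk,
      fun h1 => hxB (eq_of_le_of_card_ge hBH (by rw [hk, h1, mul_one]) ▸ hxH)⟩
    rw [hk, mul_comm 2]
    exact Nat.mul_le_mul_left _ (by omega)
  rw [card_image φ hinj, W.card_base] at hlt
  have hN4 : Nat.card N = 4 := by rw [card_image φ hinj, W.card_Phi]
  -- the quotient is elementary abelian
  have hNcB : ∀ n ∈ N, ∀ b ∈ B, n * b = b * n := by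
    rintro _ ⟨n, hn, rfl⟩ _ ⟨b, hb, rfl⟩
    rw [← map_mul, ← map_mul, W.phi_central n hn b hb]
  have hNH : ∀ n ∈ N, ∀ y ∈ H, n * y = y * n := by
    rintro n hn _ ⟨b, hb, rfl | rfl⟩
    · exact hNcB n hn b hb
    · rw [← mul_assoc, hNcB n hn b hb, mul_assoc, ← hNc n hn, mul_assoc]
  have hBB : ∀ b ∈ B, ∀ c ∈ B, b * c * b⁻¹ * c⁻¹ ∈ N := by
    rintro _ ⟨b, hb, rfl⟩ _ ⟨c, hc, rfl⟩
    exact ⟨_, W.comm_mem_Phi b hb c hc, by simp⟩
  have hxc : ∀ c ∈ B, x * c * x⁻¹ * c⁻¹ ∈ N := by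
    rintro _ ⟨c, hc, rfl⟩
    exact h c hc
  -- centralising modulo `N` is closed under products
  let C : ∀ v : S, Subgroup S := fun v =>
    { carrier := {u | u ∈ H ∧ u * v * u⁻¹ * v⁻¹ ∈ N}
      one_mem' := ⟨one_mem H, by simp⟩
      mul_mem' := by
        rintro a b ⟨ha, ha'⟩ ⟨hb, hb'⟩
        refine ⟨mul_mem ha hb, ?_⟩
        have e : a * b * v * (a * b)⁻¹ * v⁻¹ = a * (b * v * b⁻¹ * v⁻¹) * a⁻¹ * (a * v * a⁻¹ * v⁻¹) := by
          group
        rw [e, ← hNH _ hb' a ha, mul_inv_cancel_right]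
        exact mul_mem hb' ha'
      inv_mem' := by
        rintro a ⟨ha, ha'⟩
        refine ⟨inv_mem ha, ?_⟩
        have e : a⁻¹ * v * a⁻¹⁻¹ * v⁻¹ = a⁻¹ * (a * v * a⁻¹ * v⁻¹)⁻¹ * a := by group
        rw [e, ← hNH _ (inv_mem ha') _ (inv_mem ha), inv_mul_cancel_right]
        exact inv_mem ha' }
  have hgen : ∀ v : S, (∀ b ∈ B, b ∈ C v) → x ∈ C v → ∀ u ∈ H, u ∈ C v := by
    rintro v hb' hx' _ ⟨b, hb, rfl | rfl⟩
    · exact hb' b hb
    · exact mul_mem (hb' b hb) hx'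
  have hswap : ∀ u v : S, u * v * u⁻¹ * v⁻¹ ∈ N → v * u * v⁻¹ * u⁻¹ ∈ N := fun u v huv => by
    have e : v * u * v⁻¹ * u⁻¹ = (u * v * u⁻¹ * v⁻¹)⁻¹ := by group
    rw [e]; exact inv_mem huv
  have hHc : ∀ v ∈ H, ∀ u ∈ H, u * v * u⁻¹ * v⁻¹ ∈ N := by
    have h1 : ∀ c ∈ B, ∀ u ∈ H, u * c * u⁻¹ * c⁻¹ ∈ N := fun c hc u hu =>
      (hgen c (fun b hb => ⟨hBH hb, hBB b hb c hc⟩) ⟨hxH, hxc c hc⟩ u hu).2
    have h2 : ∀ u ∈ H, u * x * u⁻¹ * x⁻¹ ∈ N := fun u hu =>
      (hgen x (fun b hb => ⟨hBH hb, hswap _ _ (hxc b hb)⟩) ⟨hxH, by simp⟩ u hu).2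
    intro v hv u hu
    exact hswap _ _ ((hgen u (fun b hb => ⟨hBH hb, hswap _ _ (h1 b hb u hu)⟩)
      ⟨hxH, hswap _ _ (h2 u hu)⟩ v hv).2)
  refine no_section hr H N (hNB.trans hBH) (fun y hy n hn => ?_)
    (fun u hu v hv => hHc v hv u hu) ?_ (by omega)
  · rw [← hNH n hn y hy, mul_inv_cancel_right]; exact hn
  · rintro _ ⟨b, hb, rfl | rfl⟩
    · obtain ⟨b, hb', rfl⟩ := hb
      exact ⟨_, W.sq_mem_Phi b hb', map_mul φ b b⟩
    · have e : b * x * (b * x) = (x * b * x⁻¹ * b⁻¹) * (b * b) * (x * x) := by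
        have hcc := hNcB _ (hxc b hb) b hb
        calc b * x * (b * x) = b * (x * b * x⁻¹ * b⁻¹) * b * (x * x) := by group
          _ = _ := by rw [← hcc]; group
      rw [e]
      refine mul_mem (mul_mem (hxc b hb) ?_) hx
      obtain ⟨b, hb', rfl⟩ := hb
      exact ⟨_, W.sq_mem_Phi b hb', map_mul φ b b⟩

variable (h2 : IsPGroup 2 S)
include h2

/-- The base contains its centraliser. -/
theorem mem_base_of_centralize (c : S) (h : ∀ b ∈ W.base, c * φ b = φ b * c) :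
    c ∈ W.base.map φ := by
  obtain ⟨k, hk⟩ := h2 c
  induction k generalizing c with
  | zero => rw [pow_zero, pow_one] at hk; exact hk ▸ one_mem _
  | succ k ih =>
    have hsq : c * c ∈ W.base.map φ := by
      refine ih (c * c) (fun b hb => ?_) (by rw [← pow_two, ← pow_mul, ← pow_succ']; exact hk)
      rw [mul_assoc, h b hb, ← mul_assoc, h b hb, mul_assoc]
    refine mem_base_of_sq hr hinj c (fun b hb => ?_) ?_
    · rw [h b hb, mul_inv_cancel_right, mul_inv_cancel]; exact one_mem _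
    · obtain ⟨w, hw, hwe⟩ := hsq
      have hcw : ∀ b : W, b ∈ W.base → w * b = b * w := fun b hb => hinj (by
        rw [map_mul, map_mul, hwe, mul_assoc, h b hb, ← mul_assoc, h b hb, mul_assoc])
      exact ⟨w, W.mem_Phi_of_central_base w hw (hcw _ (by decide)) (hcw _ (by decide))
        (hcw _ (by decide)) (hcw _ (by decide)), hwe⟩

/-- An element acting trivially on the base modulo its centre is in the base. -/
theorem mem_base_of_trivial (x : S) (h : ∀ b ∈ W.base, x * φ b * x⁻¹ * (φ b)⁻¹ ∈ W.Phi.map φ) :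
    x ∈ W.base.map φ := by
  refine mem_base_of_sq hr hinj x h ?_
  have hcent : ∀ b ∈ W.base, x * x * φ b = φ b * (x * x) := by
    intro b hb
    obtain ⟨c, hc, hce⟩ := h b hb
    have hconj : x * φ b * x⁻¹ = φ c * φ b := by rw [hce, inv_mul_cancel_right]
    have : x * x * φ b * (x * x)⁻¹ = φ b := by
      calc x * x * φ b * (x * x)⁻¹ = x * (x * φ b * x⁻¹) * x⁻¹ := by group
        _ = x * (φ c * φ b) * x⁻¹ := by rw [hconj]
        _ = (x * φ c * x⁻¹) * (x * φ b * x⁻¹) := by group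
        _ = φ (c * c) * φ b := by rw [conj_phi_eq φ x c hc h, hconj, map_mul, mul_assoc]
        _ = φ b := by rw [W.sq_Phi c hc, map_one, one_mul]
    exact mul_inv_eq_iff_eq_mul.1 this
  obtain ⟨w, hw, hwe⟩ := mem_base_of_centralize hr hinj h2 (x * x) hcent
  have hcw : ∀ b : W, b ∈ W.base → w * b = b * w := fun b hb => hinj (by
    rw [map_mul, map_mul, hwe, hcent b hb])
  exact ⟨w, W.mem_Phi_of_central_base w hw (hcw _ (by decide)) (hcw _ (by decide))
    (hcw _ (by decide)) (hcw _ (by decide)), hwe⟩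

/-- The centraliser of the wreath product is its centre. -/
theorem mem_center_image (c : S) (h : ∀ w : W, c * φ w = φ w * c) : c ∈ W.ZZ.map φ := by
  obtain ⟨w, -, hwe⟩ := mem_base_of_centralize hr hinj h2 c (fun b _ => h b)
  have hw : ∀ v : W, w * v = v * w := fun v => hinj (by rw [map_mul, map_mul, hwe, h v])
  exact ⟨w, W.mem_ZZ_of_central w (hw _) (hw _) (hw _), hwe⟩

end rank

end CfsgLib.PGroup.DihedralWreath
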