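import Mathlib
import Cfsg.Prelude.Def_CaseTheorems
import Cfsg.Agent.Lib.PGroup.DihedralWreath.Base

/-!
The automorphisms of the wreath product induced from a `2`-group of sectional rank at most four.
-/

set_option autoImplicit false
set_option linter.style.haveILetI false

namespace CfsgLib.PGroup.DihedralWreath

open Subgroup

/-- Normal elementary abelian subgroups of order sixteen of the wreath product. -/
theorem eq_E_or_F (V : Subgroup W) (hn : ∀ w, ∀ v ∈ V, w * v * w⁻¹ ∈ V)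
    (hc : ∀ u ∈ V, ∀ v ∈ V, u * v = v * u) (hs : ∀ v ∈ V, v * v = 1) (h16 : Nat.card V = 16) :
    V = W.E ∨ V = W.F := by
  have hmem : ∀ v ∈ V, v ∈ W.E ∨ v ∈ W.F := fun v hv =>
    W.normal_elem_mem v (hs v hv) fun x => hc v hv _ (hn x v hv)
  by_cases hE : V ≤ W.E
  · exact Or.inl (eq_of_le_of_card_ge hE (by rw [W.card_E, h16]))
  by_cases hF : V ≤ W.F
  · exact Or.inr (eq_of_le_of_card_ge hF (by rw [W.card_F, h16]))
  obtain ⟨a, haV, haE⟩ := SetLike.not_le_iff_exists.1 hE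
  obtain ⟨b, hbV, hbF⟩ := SetLike.not_le_iff_exists.1 hF
  have haF := (hmem a haV).resolve_left haE
  have hbE := (hmem b hbV).resolve_right hbF
  rcases hmem _ (mul_mem haV hbV) with h | h
  · exact absurd ((mul_mem_cancel_right hbE).1 h) haE
  · exact absurd ((mul_mem_cancel_left haF).1 h) hbF

theorem inf_E_F : ∀ w : W, w ∈ W.E → w ∈ W.F → w ∈ W.Phi := by decide +kernel

theorem E_ne_F : W.E ≠ W.F := fun h =>
  absurd (h ▸ (show W.F1 ∈ W.E by decide)) (show W.F1 ∉ W.F by decide)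

variable (ψ : W ≃* W)

theorem card_map_auto (K : Subgroup W) : Nat.card (K.map ψ.toMonoidHom) = Nat.card K :=
  (Nat.card_congr (K.equivMapOfInjective ψ.toMonoidHom ψ.injective).toEquiv).symm

theorem map_E_cases : (W.E.map ψ.toMonoidHom = W.E ∧ W.F.map ψ.toMonoidHom = W.F) ∨
    (W.E.map ψ.toMonoidHom = W.F ∧ W.F.map ψ.toMonoidHom = W.E) := by
  have h : ∀ K : Subgroup W, (∀ w, ∀ v ∈ K, w * v * w⁻¹ ∈ K) → (∀ u ∈ K, ∀ v ∈ K, u * v = v * u) →
      (∀ v ∈ K, v * v = 1) → Nat.card K = 16 →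
      K.map ψ.toMonoidHom = W.E ∨ K.map ψ.toMonoidHom = W.F := by
    intro K hn hc hs h16
    refine eq_E_or_F _ ?_ ?_ ?_ ((card_map_auto ψ K).trans h16)
    · rintro w _ ⟨v, hv, rfl⟩
      exact ⟨ψ.symm w * v * (ψ.symm w)⁻¹, hn _ v hv, by simp⟩
    · rintro _ ⟨u, hu, rfl⟩ _ ⟨v, hv, rfl⟩
      rw [← map_mul, ← map_mul, hc u hu v hv]
    · rintro _ ⟨v, hv, rfl⟩
      rw [← map_mul, hs v hv, map_one]
  have hE := h W.E W.E_conj W.comm_E W.sq_E W.card_E
  have hF := h W.F W.F_conj W.comm_F W.sq_F W.card_F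
  have hne : W.E.map ψ.toMonoidHom ≠ W.F.map ψ.toMonoidHom := fun e =>
    E_ne_F (map_injective ψ.injective e)
  rcases hE with hE | hE <;> rcases hF with hF | hF
  · exact absurd (hE.trans hF.symm) hne
  · exact Or.inl ⟨hE, hF⟩
  · exact Or.inr ⟨hE, hF⟩
  · exact absurd (hE.trans hF.symm) hne

theorem not_phi_image {a : W} (ha : a ∉ W.Phi) (haE : a ∈ W.E ∨ a ∈ W.F) : ψ a ∉ W.Phi := by
  intro h
  apply ha
  have hE : ψ a ∈ W.E := ⟨h.1, Or.elim h.2.1 Or.inl (Or.inr ∘ Or.inl),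
    Or.elim h.2.2 Or.inl (Or.inr ∘ Or.inl)⟩
  have hF : ψ a ∈ W.F := ⟨h.1, Or.elim h.2.1 Or.inl (Or.inr ∘ Or.inl),
    Or.elim h.2.2 Or.inl (Or.inr ∘ Or.inl)⟩
  rcases map_E_cases ψ with ⟨he, hf⟩ | ⟨he, hf⟩
  · obtain ⟨u, hu, hue⟩ := he.symm ▸ hE
    obtain ⟨v, hv, hve⟩ := hf.symm ▸ hF
    obtain rfl := ψ.injective hue
    obtain rfl := ψ.injective hve
    exact inf_E_F _ hu hv
  · obtain ⟨u, hu, hue⟩ := he.symm ▸ hF
    obtain ⟨v, hv, hve⟩ := hf.symm ▸ hE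
    obtain rfl := ψ.injective hue
    obtain rfl := ψ.injective hve
    exact inf_E_F _ hu hv

theorem not_commute_image {a b : W} (h : a * b ≠ b * a) : ψ a * ψ b ≠ ψ b * ψ a := by
  rw [← map_mul, ← map_mul]
  exact fun e => h (ψ.injective e)

theorem commute_image {a b : W} (h : a * b = b * a) : ψ a * ψ b = ψ b * ψ a := by
  rw [← map_mul, ← map_mul, h]

/-- An automorphism preserving both subgroups of order sixteen permutes the coordinates. -/
theorem fix_cases (he : W.E.map ψ.toMonoidHom = W.E) (hf : W.F.map ψ.toMonoidHom = W.F) :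
    (W.F1⁻¹ * ψ W.F1 ∈ W.Phi ∧ W.G1⁻¹ * ψ W.G1 ∈ W.Phi ∧
      W.F2⁻¹ * ψ W.F2 ∈ W.Phi ∧ W.G2⁻¹ * ψ W.G2 ∈ W.Phi) ∨
    (W.F2⁻¹ * ψ W.F1 ∈ W.Phi ∧ W.G2⁻¹ * ψ W.G1 ∈ W.Phi ∧
      W.F1⁻¹ * ψ W.F2 ∈ W.Phi ∧ W.G1⁻¹ * ψ W.G2 ∈ W.Phi) := by
  have mE : ∀ w : W, w ∈ W.E → ψ w ∈ W.E := fun w hw => he ▸ mem_map_of_mem ψ.toMonoidHom hw
  have mF : ∀ w : W, w ∈ W.F → ψ w ∈ W.F := fun w hw => hf ▸ mem_map_of_mem ψ.toMonoidHom hw
  have h1 := W.pair_class (ψ W.F1) (mE _ (by decide)) (ψ W.G1) (mF _ (by decide))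
    (not_commute_image ψ (by decide))
    ⟨ψ W.G2, mF _ (by decide), not_phi_image ψ (by decide) (by decide), commute_image ψ (by decide)⟩
    ⟨ψ W.F2, mE _ (by decide), not_phi_image ψ (by decide) (by decide), commute_image ψ (by decide)⟩
  have h2 := W.pair_class (ψ W.F2) (mE _ (by decide)) (ψ W.G2) (mF _ (by decide))
    (not_commute_image ψ (by decide))
    ⟨ψ W.G1, mF _ (by decide), not_phi_image ψ (by decide) (by decide), commute_image ψ (by decide)⟩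
    ⟨ψ W.F1, mE _ (by decide), not_phi_image ψ (by decide) (by decide), commute_image ψ (by decide)⟩
  have hcm := commute_image ψ (show W.F1 * W.G2 = W.G2 * W.F1 by decide)
  rcases h1 with ⟨a, b⟩ | ⟨a, b⟩ <;> rcases h2 with ⟨c, d⟩ | ⟨c, d⟩
  · have := W.F1_G1_comm_ne _ a _ d
    rw [mul_inv_cancel_left, mul_inv_cancel_left] at this
    exact absurd hcm this
  · exact Or.inl ⟨a, b, c, d⟩
  · exact Or.inr ⟨a, b, c, d⟩
  · have := W.F2_G2_comm_ne _ a _ d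
    rw [mul_inv_cancel_left, mul_inv_cancel_left] at this
    exact absurd hcm this

/-- An automorphism exchanging both subgroups of order sixteen, on the generators. -/
theorem swap_cases (he : W.E.map ψ.toMonoidHom = W.F) (hf : W.F.map ψ.toMonoidHom = W.E) :
    (W.F1⁻¹ * ψ W.G1 ∈ W.Phi ∧ W.G1⁻¹ * ψ W.F1 ∈ W.Phi ∧
      W.F2⁻¹ * ψ W.G2 ∈ W.Phi ∧ W.G2⁻¹ * ψ W.F2 ∈ W.Phi) ∨
    (W.F2⁻¹ * ψ W.G1 ∈ W.Phi ∧ W.G2⁻¹ * ψ W.F1 ∈ W.Phi ∧
      W.F1⁻¹ * ψ W.G2 ∈ W.Phi ∧ W.G1⁻¹ * ψ W.F2 ∈ W.Phi) := by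
  have mE : ∀ w : W, w ∈ W.E → ψ w ∈ W.F := fun w hw => he ▸ mem_map_of_mem ψ.toMonoidHom hw
  have mF : ∀ w : W, w ∈ W.F → ψ w ∈ W.E := fun w hw => hf ▸ mem_map_of_mem ψ.toMonoidHom hw
  have h1 := W.pair_class (ψ W.G1) (mF _ (by decide)) (ψ W.F1) (mE _ (by decide))
    (not_commute_image ψ (by decide))
    ⟨ψ W.F2, mE _ (by decide), not_phi_image ψ (by decide) (by decide), commute_image ψ (by decide)⟩
    ⟨ψ W.G2, mF _ (by decide), not_phi_image ψ (by decide) (by decide), commute_image ψ (by decide)⟩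
  have h2 := W.pair_class (ψ W.G2) (mF _ (by decide)) (ψ W.F2) (mE _ (by decide))
    (not_commute_image ψ (by decide))
    ⟨ψ W.F1, mE _ (by decide), not_phi_image ψ (by decide) (by decide), commute_image ψ (by decide)⟩
    ⟨ψ W.G1, mF _ (by decide), not_phi_image ψ (by decide) (by decide), commute_image ψ (by decide)⟩
  have hcm := commute_image ψ (show W.G1 * W.F2 = W.F2 * W.G1 by decide)
  rcases h1 with ⟨a, b⟩ | ⟨a, b⟩ <;> rcases h2 with ⟨c, d⟩ | ⟨c, d⟩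
  · have := W.F1_G1_comm_ne _ a _ d
    rw [mul_inv_cancel_left, mul_inv_cancel_left] at this
    exact absurd hcm this
  · exact Or.inl ⟨a, b, c, d⟩
  · exact Or.inr ⟨a, b, c, d⟩
  · have := W.F2_G2_comm_ne _ a _ d
    rw [mul_inv_cancel_left, mul_inv_cancel_left] at this
    exact absurd hcm this

section inS

variable {S : Type*} [Group S] {φ : W →* S} (hinj : Function.Injective φ)
include hinj

/-- An element normalising the image acts by an automorphism. -/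
theorem exists_auto {n : S} (hn : n ∈ normalizer (φ.range : Set S)) :
    ∃ ψ : W ≃* W, ∀ w, φ (ψ w) = n * φ w * n⁻¹ := by
  have h : ∀ w, ∃ v, φ v = n * φ w * n⁻¹ := fun w => (mem_normalizer_iff.1 hn (φ w)).1 ⟨w, rfl⟩
  choose f hf using h
  have hm : ∀ a b, f (a * b) = f a * f b := fun a b => hinj (by
    rw [map_mul, hf, hf, hf, map_mul]; group)
  have hfi : Function.Injective f := fun a b hab => hinj (by
    have := congrArg φ hab
    rw [hf, hf] at this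
    exact mul_left_cancel (mul_right_cancel this))
  exact ⟨MulEquiv.ofBijective (MonoidHom.mk' f hm) (Finite.injective_iff_bijective.1 hfi), hf⟩

omit hinj in
/-- Composition with an element of the image. -/
theorem auto_mul (w : W) {n : S} {ψ : W ≃* W} (hψ : ∀ v, φ (ψ v) = n * φ v * n⁻¹) (v : W) :
    φ (w * ψ v * w⁻¹) = φ w * n * φ v * (φ w * n)⁻¹ := by
  rw [map_mul, map_mul, map_inv, hψ]; group

variable [Finite S] (hr : Cfsg.SectionalPRankLE 2 4 S) (h2 : IsPGroup 2 S)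
include hr h2

/-- An element of the normaliser of the image that fixes the first subgroup of order sixteen lies in
the image. -/
theorem mem_range_of_fix {n : S} {ψ : W ≃* W} (hψ : ∀ w, φ (ψ w) = n * φ w * n⁻¹)
    (he : W.E.map ψ.toMonoidHom = W.E) : n ∈ φ.range := by
  have hf : W.F.map ψ.toMonoidHom = W.F := (map_E_cases ψ).elim And.right
    (fun h => absurd (he.symm.trans h.1) E_ne_F)
  have key : ∀ (x : S) (θ : W → W), (∀ w, φ (θ w) = x * φ w * x⁻¹) → W.F1⁻¹ * θ W.F1 ∈ W.Phi →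
      W.G1⁻¹ * θ W.G1 ∈ W.Phi → W.F2⁻¹ * θ W.F2 ∈ W.Phi → W.G2⁻¹ * θ W.G2 ∈ W.Phi →
      x ∈ W.base.map φ := by
    intro x θ hθ a b c d
    refine mem_base_of_trivial hr hinj h2 x fun v hv => ?_
    let K : Subgroup S :=
      { carrier := {y | y ∈ W.base.map φ ∧ x * y * x⁻¹ * y⁻¹ ∈ W.Phi.map φ}
        one_mem' := ⟨one_mem _, by simp⟩
        mul_mem' := by
          rintro u w ⟨hu, hu'⟩ ⟨hw, hw'⟩
          refine ⟨mul_mem hu hw, ?_⟩
          have e : x * (u * w) * x⁻¹ * (u * w)⁻¹ =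
              x * u * x⁻¹ * u⁻¹ * (u * (x * w * x⁻¹ * w⁻¹) * u⁻¹) := by group
          rw [e]
          refine mul_mem hu' ?_
          obtain ⟨p, hp, hpe⟩ := hw'
          obtain ⟨q, hq, rfl⟩ := hu
          exact ⟨_, W.Phi_conj q p hp, by simp [hpe]⟩
        inv_mem' := by
          rintro u ⟨hu, hu'⟩
          refine ⟨inv_mem hu, ?_⟩
          have e : x * u⁻¹ * x⁻¹ * u⁻¹⁻¹ = u⁻¹ * (x * u * x⁻¹ * u⁻¹)⁻¹ * u⁻¹⁻¹ := by group
          rw [e]
          obtain ⟨p, hp, hpe⟩ := inv_mem hu'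
          obtain ⟨q, hq, hqe⟩ := inv_mem hu
          exact ⟨_, W.Phi_conj q p hp, by simp [hpe, hqe]⟩ }
    have hg : ∀ g : W, g ∈ W.base → g⁻¹ * θ g ∈ W.Phi → φ g ∈ K := fun g hg hgΦ =>
      ⟨mem_map_of_mem φ hg, ⟨g * (g⁻¹ * θ g) * g⁻¹, W.Phi_conj g _ hgΦ, by
        rw [mul_inv_cancel_left, map_mul, map_inv, hθ]⟩⟩
    have h1' := hg W.F1 (by decide) a
    have h2' := hg W.G1 (by decide) b
    have h3' := hg W.F2 (by decide) c
    have h4' := hg W.G2 (by decide) d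
    have hcond : ∀ (t : Bool) (g : W), φ g ∈ K → φ (cond t g 1) ∈ K := fun t g hgK => by
      cases t
      · simp only [cond_false, map_one, one_mem]
      · exact hgK
    obtain ⟨a', b', c', d', e', f', rfl⟩ := W.base_word v hv
    have hmem : φ (cond a' W.F1 1 * cond b' W.G1 1 * cond c' W.F2 1 * cond d' W.G2 1 *
        cond e' (W.F1 * W.G1 * (W.F1 * W.G1)) 1 * cond f' (W.F2 * W.G2 * (W.F2 * W.G2)) 1) ∈ K := by
      simp only [map_mul φ _ (cond _ _ _), map_mul φ (cond _ _ _) _]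
      refine mul_mem (mul_mem (mul_mem (mul_mem (mul_mem (hcond _ _ h1') (hcond _ _ h2'))
        (hcond _ _ h3')) (hcond _ _ h4')) (hcond _ _ ?_)) (hcond _ _ ?_)
      · rw [map_mul, map_mul]; exact mul_mem (mul_mem h1' h2') (mul_mem h1' h2')
      · rw [map_mul, map_mul]; exact mul_mem (mul_mem h3' h4') (mul_mem h3' h4')
    exact hmem.2
  have hB : W.base.map φ ≤ φ.range := map_le_range _ _
  rcases fix_cases ψ he hf with ⟨a, b, c, d⟩ | ⟨a, b, c, d⟩
  · exact hB (key n ψ hψ a b c d)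
  · have hT : ∀ p : W, p ∈ W.Phi →
        W.F1⁻¹ * (W.T * (W.F2 * p) * W.T⁻¹) ∈ W.Phi ∧ W.G1⁻¹ * (W.T * (W.G2 * p) * W.T⁻¹) ∈ W.Phi ∧
        W.F2⁻¹ * (W.T * (W.F1 * p) * W.T⁻¹) ∈ W.Phi ∧ W.G2⁻¹ * (W.T * (W.G1 * p) * W.T⁻¹) ∈ W.Phi := by
      decide +kernel
    have := key (φ W.T * n) (fun v => W.T * ψ v * W.T⁻¹) (auto_mul W.T hψ)
      (by have := (hT _ a).1; rwa [mul_inv_cancel_left] at this)
      (by have := (hT _ b).2.1; rwa [mul_inv_cancel_left] at this)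
      (by have := (hT _ c).2.2.1; rwa [mul_inv_cancel_left] at this)
      (by have := (hT _ d).2.2.2; rwa [mul_inv_cancel_left] at this)
    exact (mul_mem_cancel_left (⟨W.T, rfl⟩ : φ W.T ∈ φ.range)).1 (hB this)

end inS

end CfsgLib.PGroup.DihedralWreath
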