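import Mathlib
import Cfsg.Prelude.Def_CaseTheorems
import Cfsg.Prelude.Def_Transfer
import Cfsg.Agent.Lib.PGroup.DihedralWreath.Auto

/-!
A `2`-group of sectional rank at most four containing a wreath product of a dihedral group of order
eight by a group of order two as a proper subgroup.
-/

set_option autoImplicit false
set_option linter.style.haveILetI false

namespace CfsgLib.PGroup.DihedralWreath

open Subgroup

/-- In a finite `2`-group a proper subgroup is properly contained in its normaliser. -/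
theorem exists_normalizer_not_mem {S : Type*} [Group S] [Finite S] (h2 : IsPGroup 2 S)
    (P M : Subgroup S) (hPM : P ≤ M) (hne : P ≠ M) :
    ∃ x ∈ M, x ∈ normalizer (P : Set S) ∧ x ∉ P := by
  haveI : Fact (Nat.Prime 2) := ⟨Nat.prime_two⟩
  haveI : Group.IsNilpotent M := (h2.to_subgroup M).isNilpotent
  have hlt : P.subgroupOf M < ⊤ := lt_top_iff_ne_top.2 fun h =>
    hne (le_antisymm hPM (subgroupOf_eq_top.1 h))
  obtain ⟨x, hx, hxP⟩ := SetLike.exists_of_lt (Group.normalizerCondition_of_isNilpotent _ hlt)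
  refine ⟨x, x.2, mem_normalizer_iff.2 fun y => ?_, hxP⟩
  constructor
  · exact fun hy => ((mem_normalizer_iff.1 hx) ⟨y, hPM hy⟩).1 hy
  · intro hy
    have hyM : y ∈ M := by
      have := mul_mem (mul_mem (inv_mem x.2) (hPM hy)) x.2
      simpa [mul_assoc] using this
    exact ((mem_normalizer_iff.1 hx) ⟨y, hyM⟩).2 hy

/-- A word for every element of the wreath product. -/
theorem W.word : ∀ w : W, w ∈ W.base ∨ w * W.T ∈ W.base := by decide +kernel

/-- A surjection from the wreath product onto a group given by an extension by an involution. -/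
theorem exists_surj {Q : Type*} [Group Q] (π : W →* Q) (m : Q) (hm : m * m = 1)
    (hZ : ∀ z ∈ W.ZZ, π z = 1) (hT : m * π W.T = π W.T * m)
    (h1 : m * π W.F1 = π W.G2 * m) (h2 : m * π W.G1 = π W.F2 * m)
    (h3 : m * π W.F2 = π W.G1 * m) (h4 : m * π W.G2 = π W.F1 * m)
    (hsurj : ∀ q : Q, q ∈ π.range ∨ q * m ∈ π.range) :
    ∃ Φ : W →* Q, Function.Surjective Φ := by
  set U := π W.T with hU
  set X := π (W.F1 * W.G2) with hX
  set V := m * X with hV
  set r := π W.F1 with hr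
  have hUU : U * U = 1 := by rw [hU, ← map_mul, show W.T * W.T = 1 by decide, map_one]
  have hrr : r * r = 1 := by rw [hr, ← map_mul, show W.F1 * W.F1 = 1 by decide, map_one]
  have hmX : m * X = X * m := by
    rw [hX, map_mul, ← mul_assoc, h1, mul_assoc, h4, ← mul_assoc, ← map_mul, ← map_mul,
      show W.G2 * W.F1 = W.F1 * W.G2 by decide]
  have hVV : V * V = 1 := by
    calc V * V = m * (X * m) * X := by rw [hV]; group
      _ = m * m * (X * X) := by rw [← hmX]; group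
      _ = 1 := by rw [hm, hX, ← map_mul,
          show W.F1 * W.G2 * (W.F1 * W.G2) = 1 by decide, map_one, mul_one]
  have hUV4 : (U * V) ^ 4 = 1 := by
    have e : U * V * (U * V) = π (W.T * (W.F1 * W.G2) * (W.T * (W.F1 * W.G2))) := by
      calc U * V * (U * V) = U * m * X * (U * m * X) := by rw [hV]; group
        _ = m * U * X * (U * m * X) := by rw [hT]
        _ = m * (U * X * U) * (m * X) := by group
        _ = m * (U * X * U) * (X * m) := by rw [hmX]
        _ = (m * π W.F2) * π W.G1 * X * m := by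
            rw [hU, hX, ← map_mul, ← map_mul,
              show W.T * (W.F1 * W.G2) * W.T = W.F2 * W.G1 by decide, map_mul]; group
        _ = π W.G1 * (m * π W.G1) * X * m := by rw [h3]; group
        _ = π W.G1 * π W.F2 * (m * X) * m := by rw [h2]; group
        _ = π W.G1 * π W.F2 * X * (m * m) := by rw [hmX]; group
        _ = _ := by rw [hm, mul_one, hX, ← map_mul, ← map_mul,
            show W.G1 * W.F2 * (W.F1 * W.G2) = W.T * (W.F1 * W.G2) * (W.T * (W.F1 * W.G2)) by decide]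
    rw [show (4 : ℕ) = 2 + 2 from rfl, pow_add, pow_two, e, ← map_mul]
    exact hZ _ (by decide)
  have hconj : U * (U * V) * U = (U * V)⁻¹ := by
    rw [mul_inv_rev, inv_eq_of_mul_eq_one_right hUU, inv_eq_of_mul_eq_one_right hVV, ← mul_assoc U U,
      hUU, one_mul]
  obtain ⟨α, hα1, hα0⟩ := exists_dihedral_lift hUV4 hUU hconj
  -- the conjugate by `r` of the generators
  have hrV : r * V * r = m := by
    calc r * V * r = (π W.F1 * m) * X * r := by rw [hV, hr]; group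
      _ = m * (π W.G2 * X * r) := by rw [← h4]; group
      _ = m := by
        rw [hX, hr, ← map_mul, ← map_mul, show W.G2 * (W.F1 * W.G2) * W.F1 = 1 by decide, map_one,
          mul_one]
  have hrU : r * U * r = π (W.F1 * W.T * W.F1) := by rw [hr, hU, map_mul, map_mul]
  have c1 : Commute U (r * U * r) := by
    rw [hrU]
    change U * _ = _ * U
    rw [hU, ← map_mul, ← map_mul]
    exact congrArg π (by decide)
  have c2 : Commute U (r * V * r) := by rw [hrV]; exact hT.symm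
  have hrconj : ∀ u v : Q, Commute u (r * v * r) → Commute v (r * u * r) := fun u v h => by
    have h' : u * (r * v * r) = r * v * r * u := h
    calc v * (r * u * r) = (r * r) * v * (r * u * r) := by rw [hrr, one_mul]
      _ = r * (r * v * r * u) * r := by group
      _ = r * (u * (r * v * r)) * r := by rw [h']
      _ = (r * u * r) * v * (r * r) := by group
      _ = r * u * r * v := by rw [hrr, mul_one]
  have c3 : Commute V (r * U * r) := hrconj U V c2
  have c4 : Commute V (r * V * r) := by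
    rw [hrV]
    change V * m = m * V
    rw [hV, mul_assoc, ← hmX]
  have hform : ∀ (p : Q), Commute U p → Commute V p → ∀ x : D8, Commute (α x) p := by
    intro p hu hv x
    have hR : Commute (α (.r 1)) p := by rw [hα1]; exact hu.mul_left hv
    rcases x with i | i
    · rw [← ZMod.natCast_zmod_val i, ← DihedralGroup.r_one_pow, map_pow]
      exact hR.pow_left _
    · rw [show DihedralGroup.sr i = DihedralGroup.sr 0 * DihedralGroup.r 1 ^ i.val by
        rw [DihedralGroup.r_one_pow, DihedralGroup.sr_mul_r, zero_add, ZMod.natCast_zmod_val],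
        map_mul, map_pow, hα0]
      exact hu.mul_left (hR.pow_left _)
  have hc : ∀ x y : D8, α x * (r * α y * r) = r * α y * r * α x := by
    intro x y
    refine hform (r * α y * r) ?_ ?_ x
    · exact hrconj _ _ (hform (r * U * r) c1 c3 y)
    · exact hrconj _ _ (hform (r * V * r) c2 c4 y)
  let Φ := liftHom α r hrr hc
  refine ⟨Φ, fun q => ?_⟩
  have hUr : U ∈ Φ.range := ⟨W.F1, by
    change α _ * (r * α 1 * r) * 1 = U
    simp only [show W.F1.fst = DihedralGroup.sr 0 from rfl, hα0, map_one, mul_one, hrr]⟩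
  have hrR : r ∈ Φ.range := ⟨W.T, by
    change α 1 * (r * α 1 * r) * r = r
    rw [map_one, one_mul, mul_one, hrr, one_mul]⟩
  have hVr : V ∈ Φ.range := ⟨W.G1, by
    change α _ * (r * α 1 * r) * 1 = V
    have e : W.G1.fst = DihedralGroup.sr 0 * DihedralGroup.r 1 := by decide
    simp only [e, map_mul, hα0, hα1, map_one, mul_one, hrr]
    rw [← mul_assoc, hUU, one_mul]⟩
  have hmR : m ∈ Φ.range := hrV ▸ mul_mem (mul_mem hrR hVr) hrR
  have hG2 : π W.G2 ∈ Φ.range := by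
    have := mul_mem hrR (mul_mem (inv_mem hmR) hVr)
    rwa [hV, inv_mul_cancel_left, hr, hX, ← map_mul,
      show W.F1 * (W.F1 * W.G2) = W.G2 by decide] at this
  have hconjT : ∀ g h : W, W.T * g * W.T = h → π g ∈ Φ.range → π h ∈ Φ.range := fun g h e hg => by
    rw [← e, map_mul, map_mul]; exact mul_mem (mul_mem hUr hg) hUr
  have hF2 : π W.F2 ∈ Φ.range := hconjT W.F1 W.F2 (by decide) hrR
  have hG1 : π W.G1 ∈ Φ.range := hconjT W.G2 W.G1 (by decide) hG2
  have hcond : ∀ (t : Bool) (g : W), π g ∈ Φ.range → π (cond t g 1) ∈ Φ.range := fun t g h => by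
    cases t
    · simp only [cond_false, map_one, one_mem]
    · exact h
  have hbase : ∀ w ∈ W.base, π w ∈ Φ.range := by
    intro w hw
    obtain ⟨a, b, c, d, e, f, rfl⟩ := W.base_word w hw
    simp only [map_mul π _ (cond _ _ _), map_mul π (cond _ _ _) _]
    refine mul_mem (mul_mem (mul_mem (mul_mem (mul_mem (hcond _ _ hrR) (hcond _ _ hG1))
      (hcond _ _ hF2)) (hcond _ _ hG2)) (hcond _ _ ?_)) (hcond _ _ ?_)
    · rw [map_mul, map_mul]; exact mul_mem (mul_mem hrR hG1) (mul_mem hrR hG1)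
    · rw [map_mul, map_mul]; exact mul_mem (mul_mem hF2 hG2) (mul_mem hF2 hG2)
  have hall : ∀ w, π w ∈ Φ.range := fun w => by
    rcases W.word w with h | h
    · exact hbase w h
    · have := mul_mem (hbase _ h) (inv_mem hUr)
      rwa [map_mul, mul_inv_cancel_right] at this
  rcases hsurj q with ⟨w, rfl⟩ | ⟨w, hw⟩
  · exact hall w
  · have := mul_mem (hall w) (inv_mem hmR)
    rwa [hw, mul_inv_cancel_right] at this

section normaliser

variable {S : Type*} [Group S] [Finite S] {φ : W →* S}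
  (h2 : IsPGroup 2 S) (hr : Cfsg.SectionalPRankLE 2 4 S) (hinj : Function.Injective φ)
include h2 hr hinj

/-- The centre. -/
theorem center_eq : center S = W.ZZ.map φ := by
  haveI : Fact (Nat.Prime 2) := ⟨Nat.prime_two⟩
  haveI : Nontrivial S := by
    refine ⟨⟨φ W.T, 1, fun h => ?_⟩⟩
    exact absurd (hinj (h.trans φ.map_one.symm)) (by decide)
  have hle : center S ≤ W.ZZ.map φ := fun c hc =>
    mem_center_image hr hinj h2 c fun w => (mem_center_iff.1 hc (φ w)).symm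
  refine eq_of_le_of_card_ge hle ?_
  rw [card_image φ hinj, W.card_ZZ]
  haveI := h2.center_nontrivial
  exact Finite.one_lt_card

/-- The automorphism of an element swapping the subgroups of order sixteen, normalised. -/
theorem exists_swap (hne : φ.range ≠ ⊤) :
    ∃ (n : S) (ψ : W ≃* W), n ∈ normalizer (φ.range : Set S) ∧ n ∉ φ.range ∧
      (∀ w, φ (ψ w) = n * φ w * n⁻¹) ∧ W.G2⁻¹ * ψ W.F1 ∈ W.ZZ ∧ W.F2⁻¹ * ψ W.G1 ∈ W.ZZ ∧
      W.G1⁻¹ * ψ W.F2 ∈ W.ZZ ∧ W.F1⁻¹ * ψ W.G2 ∈ W.ZZ := by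
  obtain ⟨n, -, hn, hnP⟩ := exists_normalizer_not_mem h2 φ.range ⊤ le_top hne
  obtain ⟨ψ, hψ⟩ := exists_auto hinj hn
  rcases map_E_cases ψ with h | ⟨he, hf⟩
  · exact absurd (mem_range_of_fix hinj hr h2 hψ h.1) hnP
  have main : ∀ (v : W) (a b c d : W), (∀ w, φ (v * ψ w * v⁻¹) = φ v * n * φ w * (φ v * n)⁻¹) →
      a = v * ψ W.F1 * v⁻¹ → b = v * ψ W.G1 * v⁻¹ → c = v * ψ W.F2 * v⁻¹ → d = v * ψ W.G2 * v⁻¹ →
      W.G2⁻¹ * a ∈ W.Phi → W.F2⁻¹ * b ∈ W.Phi → W.G1⁻¹ * c ∈ W.Phi → W.F1⁻¹ * d ∈ W.Phi →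
      ∃ u : W, W.G2⁻¹ * (u * ψ W.F1 * u⁻¹) ∈ W.ZZ ∧ W.F2⁻¹ * (u * ψ W.G1 * u⁻¹) ∈ W.ZZ ∧
        W.G1⁻¹ * (u * ψ W.F2 * u⁻¹) ∈ W.ZZ ∧ W.F1⁻¹ * (u * ψ W.G2 * u⁻¹) ∈ W.ZZ := by
    intro v a b c d _ ea eb ec ed ha hb hc hd
    obtain ⟨u, -, q1, q2, q3, q4⟩ := W.exists_adjust a ha b hb c hc d hd
    refine ⟨u * v, ?_, ?_, ?_, ?_⟩
    · have : u * v * ψ W.F1 * (u * v)⁻¹ = u * a * u⁻¹ := by rw [ea]; group
      rw [this]; exact q1
    · have : u * v * ψ W.G1 * (u * v)⁻¹ = u * b * u⁻¹ := by rw [eb]; group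
      rw [this]; exact q2
    · have : u * v * ψ W.F2 * (u * v)⁻¹ = u * c * u⁻¹ := by rw [ec]; group
      rw [this]; exact q3
    · have : u * v * ψ W.G2 * (u * v)⁻¹ = u * d * u⁻¹ := by rw [ed]; group
      rw [this]; exact q4
  obtain ⟨u, q1, q2, q3, q4⟩ : ∃ u : W, W.G2⁻¹ * (u * ψ W.F1 * u⁻¹) ∈ W.ZZ ∧
      W.F2⁻¹ * (u * ψ W.G1 * u⁻¹) ∈ W.ZZ ∧ W.G1⁻¹ * (u * ψ W.F2 * u⁻¹) ∈ W.ZZ ∧
      W.F1⁻¹ * (u * ψ W.G2 * u⁻¹) ∈ W.ZZ := by
    rcases swap_cases ψ he hf with ⟨a, b, c, d⟩ | ⟨a, b, c, d⟩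
    · have hT : ∀ p : W, p ∈ W.Phi →
          W.G2⁻¹ * (W.T * (W.G1 * p) * W.T⁻¹) ∈ W.Phi ∧ W.F2⁻¹ * (W.T * (W.F1 * p) * W.T⁻¹) ∈ W.Phi ∧
          W.G1⁻¹ * (W.T * (W.G2 * p) * W.T⁻¹) ∈ W.Phi ∧ W.F1⁻¹ * (W.T * (W.F2 * p) * W.T⁻¹) ∈ W.Phi := by
        decide +kernel
      refine main W.T _ _ _ _ (auto_mul W.T hψ) rfl rfl rfl rfl ?_ ?_ ?_ ?_
      · have := (hT _ b).1; rwa [mul_inv_cancel_left] at this
      · have := (hT _ a).2.1; rwa [mul_inv_cancel_left] at this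
      · have := (hT _ d).2.2.1; rwa [mul_inv_cancel_left] at this
      · have := (hT _ c).2.2.2; rwa [mul_inv_cancel_left] at this
    · refine main 1 _ _ _ _ (auto_mul 1 hψ) rfl rfl rfl rfl ?_ ?_ ?_ ?_ <;>
        simpa only [one_mul, inv_one, mul_one]
  refine ⟨φ u * n, ψ.trans (MulAut.conj u), mul_mem (le_normalizer ⟨u, rfl⟩) hn,
    fun h => hnP ((mul_mem_cancel_left (⟨u, rfl⟩ : φ u ∈ φ.range)).1 h), auto_mul u hψ, q1, q2, q3, q4⟩

/-- The wreath product has index two in its normaliser. -/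
theorem relIndex_eq (hne : φ.range ≠ ⊤) : φ.range.relIndex (normalizer (φ.range : Set S)) = 2 := by
  obtain ⟨n, hnm, hn, hnP⟩ := exists_normalizer_not_mem h2 φ.range ⊤ le_top hne
  rw [relIndex, Subgroup.index_eq_two_iff]
  refine ⟨⟨n, hn⟩, fun ⟨b, hb⟩ => ?_⟩
  simp only [mem_subgroupOf, MulMemClass.mk_mul_mk]
  by_cases hbP : b ∈ φ.range
  · exact Or.inr ⟨hbP, fun h => hnP ((mul_mem_cancel_left hbP).1 h)⟩
  · refine Or.inl ⟨?_, hbP⟩
    obtain ⟨ψ, hψ⟩ := exists_auto hinj hn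
    obtain ⟨θ, hθ⟩ := exists_auto hinj hb
    have h1 := (map_E_cases ψ).resolve_left (fun h => hnP (mem_range_of_fix hinj hr h2 hψ h.1))
    have h1' := (map_E_cases θ).resolve_left (fun h => hbP (mem_range_of_fix hinj hr h2 hθ h.1))
    refine mem_range_of_fix hinj hr h2 (ψ := ψ.trans θ) (fun w => ?_) ?_
    · rw [MulEquiv.trans_apply, hθ, hψ]; group
    · rw [show (ψ.trans θ).toMonoidHom = θ.toMonoidHom.comp ψ.toMonoidHom from rfl, ← map_map,
        h1.1, h1'.2]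

/-- The normaliser of a normal elementary abelian subgroup of order sixteen. -/
theorem normalizer_eq (V : Subgroup S) (hV : V ≤ φ.range) (hVn : ∀ g ∈ φ.range, ∀ v ∈ V, g * v * g⁻¹ ∈ V)
    (hVe : Cfsg.IsElementaryAbelian 2 V) (h16 : Nat.card V = 16) :
    normalizer (V : Set S) = φ.range := by
  have hle : φ.range ≤ normalizer (V : Set S) := fun g hg => mem_normalizer_iff.2 fun v =>
    ⟨hVn g hg v, fun h => by
      have := hVn g⁻¹ (inv_mem hg) _ h
      simpa [mul_assoc] using this⟩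
  by_contra hne
  obtain ⟨x, hxM, hxN, hxP⟩ := exists_normalizer_not_mem h2 φ.range _ hle (Ne.symm hne)
  obtain ⟨ψ, hψ⟩ := exists_auto hinj hxN
  set V' := V.comap φ with hV'
  have hmap : V'.map φ = V := map_comap_eq_self hV
  haveI : IsMulCommutative V := hVe.1
  have hcases : V' = W.E ∨ V' = W.F := by
    refine eq_E_or_F V' (fun w v hv => ?_) (fun u hu v hv => hinj ?_) (fun v hv => hinj ?_) ?_
    · change φ (w * v * w⁻¹) ∈ V
      rw [map_mul, map_mul, map_inv]; exact hVn _ ⟨w, rfl⟩ _ hv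
    · rw [map_mul, map_mul]
      exact congrArg Subtype.val (mul_comm' (⟨φ u, hu⟩ : V) ⟨φ v, hv⟩)
    · rw [map_mul, map_one, ← pow_two]; exact hVe.2 _ hv
    · rw [← card_image φ hinj, hmap, h16]
  have hfix : ∀ K : Subgroup W, V' = K → K.map ψ.toMonoidHom = K := fun K hK => by
    refine eq_of_le_of_card_ge ?_ (card_map_auto ψ K).ge
    rintro _ ⟨v, hv, rfl⟩
    subst hK
    change φ (ψ v) ∈ V
    rw [hψ]; exact (mem_normalizer_iff.1 hxM _).1 hv
  rcases hcases with h | h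
  · exact hxP (mem_range_of_fix hinj hr h2 hψ (hfix _ h))
  · rcases map_E_cases ψ with h' | h'
    · exact hxP (mem_range_of_fix hinj hr h2 hψ h'.1)
    · exact E_ne_F (h'.2.symm.trans (hfix _ h))
where
  mul_comm' {K : Subgroup S} [IsMulCommutative K] (a b : K) : a * b = b * a :=
    IsMulCommutative.is_comm.comm a b

/-- The quotient of the normaliser by the centre. -/
theorem quotient_equiv (hne : φ.range ≠ ⊤) [((center S).subgroupOf (normalizer (φ.range : Set S))).Normal] :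
    Nonempty (W ≃* normalizer (φ.range : Set S) ⧸ (center S).subgroupOf (normalizer (φ.range : Set S))) := by
  set N := normalizer (φ.range : Set S) with hN
  obtain ⟨n, ψ, hnN, hnP, hψ, q1, q2, q3, q4⟩ := exists_swap h2 hr hinj hne
  have hPN : φ.range ≤ N := le_normalizer
  let π : W →* N ⧸ (center S).subgroupOf N :=
    (QuotientGroup.mk' _).comp (φ.codRestrict N fun w => hPN ⟨w, rfl⟩)
  let m : N ⧸ (center S).subgroupOf N := QuotientGroup.mk' _ ⟨n, hnN⟩
  have hZc : ∀ z ∈ W.ZZ, φ z ∈ center S := fun z hz =>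
    (center_eq h2 hr hinj) ▸ mem_map_of_mem φ hz
  have hker : ∀ z ∈ W.ZZ, π z = 1 := fun z hz => (QuotientGroup.eq_one_iff _).2 (hZc z hz)
  have hZfix : ∀ z ∈ W.ZZ, ψ z = z := fun z hz => hinj (by
    rw [hψ, mem_center_iff.1 (hZc z hz) n, mul_inv_cancel_right])
  have hmπ : ∀ w, m * π w = π (ψ w) * m := fun w => by
    change QuotientGroup.mk' _ _ * QuotientGroup.mk' _ _ = QuotientGroup.mk' _ _ * QuotientGroup.mk' _ _
    rw [← map_mul, ← map_mul]
    congr 1
    exact Subtype.ext (by simp [hψ])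
  have hπeq : ∀ a b : W, a⁻¹ * b ∈ W.ZZ → π b = π a := fun a b h => by
    have := hker _ h
    rw [map_mul, map_inv] at this
    exact (inv_mul_eq_one.1 this).symm
  -- the square
  have hmap : W.E.map ψ.toMonoidHom = W.F := by
    refine ((map_E_cases ψ).resolve_left fun h => hnP (mem_range_of_fix hinj hr h2 hψ h.1)).1
  have hmap' : W.F.map ψ.toMonoidHom = W.E :=
    ((map_E_cases ψ).resolve_left fun h => hnP (mem_range_of_fix hinj hr h2 hψ h.1)).2
  obtain ⟨w, hw⟩ : n * n ∈ φ.range := by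
    refine mem_range_of_fix hinj hr h2 (ψ := ψ.trans ψ) (fun v => ?_) ?_
    · rw [MulEquiv.trans_apply, hψ, hψ]; group
    · rw [show (ψ.trans ψ).toMonoidHom = ψ.toMonoidHom.comp ψ.toMonoidHom from rfl, ← map_map,
        hmap, hmap']
  have hwψ : ψ w = w := hinj (by rw [hψ, hw]; group)
  have hwg : ∀ g h : W, h⁻¹ * ψ g ∈ W.ZZ → g⁻¹ * ψ h ∈ W.ZZ → w * g * w⁻¹ * g⁻¹ ∈ W.ZZ := by
    intro g h e1 e2
    have e : w * g * w⁻¹ = ψ (ψ g) := hinj (by rw [map_mul, map_mul, map_inv, hψ, hψ, hw]; group)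
    have e3 : ψ (ψ g) = g * (g⁻¹ * ψ h * (h⁻¹ * ψ g)) := by
      calc ψ (ψ g) = ψ (h * (h⁻¹ * ψ g)) := by rw [mul_inv_cancel_left]
        _ = ψ h * (h⁻¹ * ψ g) := by rw [map_mul, hZfix _ e1]
        _ = _ := by group
    rw [e, e3, W.central_ZZ _ (mul_mem e2 e1) g, mul_inv_cancel_right]
    exact mul_mem e2 e1
  have hwΦ := W.mem_Phi_of_fix w (hwg _ _ q1 q4) (hwg _ _ q2 q3) (hwg _ _ q3 q2) (hwg _ _ q4 q1)
  have hZ12 : ψ W.Z1 = W.Z2 := by
    have hd : ∀ a : W, a ∈ W.ZZ → ∀ b : W, b ∈ W.ZZ →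
        W.G2 * a * (W.F2 * b) * (W.G2 * a * (W.F2 * b)) = W.Z2 := by decide +kernel
    have e : W.Z1 = W.F1 * W.G1 * (W.F1 * W.G1) := by decide
    have := hd _ q1 _ q2
    rw [mul_inv_cancel_left, mul_inv_cancel_left] at this
    rw [e, map_mul, map_mul]; exact this
  have hZ21 : ψ W.Z2 = W.Z1 := by
    rw [show W.Z2 = W.Z1 * W.Z by decide, map_mul, hZ12, hZfix W.Z (by decide)]
    decide
  have hwZ : w ∈ W.ZZ := W.mem_ZZ_of_swap w hwΦ (ψ w) (hwψ.symm ▸ hwΦ)
    (fun e => e ▸ hZ12) (fun e => e ▸ hZ21) hwψ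
  have hm : m * m = 1 := by
    change QuotientGroup.mk' _ _ * QuotientGroup.mk' _ _ = 1
    rw [← map_mul]
    refine (QuotientGroup.eq_one_iff _).2 ?_
    change n * n ∈ center S
    exact hw ▸ hZc w hwZ
  -- the swap
  have hTsq : ψ W.T * ψ W.T = 1 := by rw [← map_mul, show W.T * W.T = 1 by decide, map_one]
  have hTact : ∀ g g' h h' : W, h⁻¹ * ψ g ∈ W.ZZ → h'⁻¹ * ψ g' ∈ W.ZZ → W.T * g * W.T⁻¹ = g' →
      ψ W.T * h * (ψ W.T)⁻¹ * h'⁻¹ ∈ W.ZZ := by
    intro g g' h h' e1 e2 e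
    have e3 : ψ W.T * ψ g * (ψ W.T)⁻¹ = ψ g' := by rw [← map_inv, ← map_mul, ← map_mul, e]
    have hd1 := W.central_ZZ _ (inv_mem e1) (ψ W.T)⁻¹
    have : ψ W.T * h * (ψ W.T)⁻¹ * h'⁻¹ = (h' * (h'⁻¹ * ψ g')) * (h⁻¹ * ψ g)⁻¹ * h'⁻¹ := by
      rw [mul_inv_cancel_left, ← e3]
      have e4 : ψ W.T * h * (ψ W.T)⁻¹ = ψ W.T * ψ g * ((h⁻¹ * ψ g)⁻¹ * (ψ W.T)⁻¹) := by group
      rw [e4, ← hd1]; group
    rw [this, W.central_ZZ _ e2 h']
    have e5 : h'⁻¹ * ψ g' * h' * (h⁻¹ * ψ g)⁻¹ * h'⁻¹ = h'⁻¹ * ψ g' * (h⁻¹ * ψ g)⁻¹ := by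
      rw [mul_assoc _ h' (h⁻¹ * ψ g)⁻¹, W.central_ZZ _ (inv_mem e1) h']; group
    rw [e5]
    exact mul_mem e2 (inv_mem e1)
  have hT := W.mem_T_of_act (ψ W.T) hTsq (hTact W.F1 W.F2 _ _ q1 q3 (by decide))
    (hTact W.G1 W.G2 _ _ q2 q4 (by decide)) (hTact W.F2 W.F1 _ _ q3 q1 (by decide))
    (hTact W.G2 W.G1 _ _ q4 q2 (by decide))
  have hsurj : ∀ q, q ∈ π.range ∨ q * m ∈ π.range := by
    intro q
    obtain ⟨⟨y, hy⟩, rfl⟩ := QuotientGroup.mk'_surjective _ q
    by_cases hyP : y ∈ φ.range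
    · obtain ⟨v, rfl⟩ := hyP
      exact Or.inl ⟨v, rfl⟩
    · have h := relIndex_eq h2 hr hinj hne
      rw [relIndex] at h
      have := (mul_mem_iff_of_index_two h (a := ⟨y, hy⟩) (b := ⟨n, hnN⟩)).2
        (iff_of_false hyP hnP)
      obtain ⟨v, hv⟩ := this
      refine Or.inr ⟨v, ?_⟩
      change QuotientGroup.mk' _ _ = QuotientGroup.mk' _ _ * QuotientGroup.mk' _ _
      rw [← map_mul]
      congr 1
      exact Subtype.ext hv
  obtain ⟨Φ, hΦ⟩ := exists_surj π m hm hker (by rw [hmπ, hπeq _ _ hT]) (by rw [hmπ, hπeq _ _ q1])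
    (by rw [hmπ, hπeq _ _ q2]) (by rw [hmπ, hπeq _ _ q3]) (by rw [hmπ, hπeq _ _ q4]) hsurj
  refine ⟨MulEquiv.ofBijective Φ ((Nat.bijective_iff_surjective_and_card Φ).2 ⟨hΦ, ?_⟩)⟩
  rw [W.card]
  have h1 := card_eq_card_quotient_mul_card_subgroup ((center S).subgroupOf N)
  have hcN : center S ≤ N := fun c hc => by
    obtain ⟨v, -, rfl⟩ := (center_eq h2 hr hinj) ▸ hc
    exact hPN ⟨v, rfl⟩
  rw [Nat.card_congr (Subgroup.subgroupOfEquivOfLe hcN).toEquiv, center_eq h2 hr hinj,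
    card_image φ hinj, W.card_ZZ] at h1
  have h3 := (φ.range.subgroupOf N).card_mul_index
  have h4 := relIndex_eq h2 hr hinj hne
  rw [relIndex] at h4
  rw [h4, Nat.card_congr (Subgroup.subgroupOfEquivOfLe hPN).toEquiv,
    ← Nat.card_congr (MonoidHom.ofInjective hinj).toEquiv, W.card] at h3
  rw [← center_eq h2 hr hinj] at h1
  omega

end normaliser

/-- The main theorem. -/
theorem main {S : Type*} [Group S] [Finite S] (h2 : IsPGroup 2 S) (hr : Cfsg.SectionalPRankLE 2 4 S) (P : Subgroup S) (hPlt : P ≠ ⊤)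
    (hP : ∃ T : Sylow 2 (Equiv.Perm (Fin 8)), Nonempty (↥P ≃* ↥(T : Subgroup (Equiv.Perm (Fin 8))))) :
    Subgroup.center S = (Subgroup.center ↥P).map P.subtype ∧ Nat.card ↥(Subgroup.center S) = 2 ∧
    P.relIndex (Subgroup.normalizer (P : Set S)) = 2 ∧
    (∃ (_ : ((Subgroup.center S).subgroupOf (Subgroup.normalizer (P : Set S))).Normal)
        (T : Sylow 2 (Equiv.Perm (Fin 8))),
      Nonempty (↥(Subgroup.normalizer (P : Set S)) ⧸ (Subgroup.center S).subgroupOf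
        (Subgroup.normalizer (P : Set S)) ≃* ↥(T : Subgroup (Equiv.Perm (Fin 8))))) ∧
    ∀ V : Subgroup S, V ≤ P → (∀ g ∈ P, ∀ v ∈ V, g * v * g⁻¹ ∈ V) → Cfsg.IsElementaryAbelian 2 V →
      Nat.card ↥V = 16 → Subgroup.normalizer (V : Set S) = P := by
  obtain ⟨T, ⟨e⟩⟩ := hP
  obtain ⟨e'⟩ := sylow_equiv T
  obtain ⟨φ, hinj, hrange⟩ : ∃ φ : W →* S, Function.Injective φ ∧ φ.range = P := by
    refine ⟨P.subtype.comp (e'.trans e.symm).toMonoidHom,
      P.subtype_injective.comp (e'.trans e.symm).injective, ?_⟩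
    ext x
    exact ⟨fun ⟨w, hw⟩ => hw ▸ ((e'.trans e.symm) w).2,
      fun hx => ⟨(e'.trans e.symm).symm ⟨x, hx⟩, by simp⟩⟩
  subst hrange
  refine ⟨le_antisymm ?_ ?_, ?_, relIndex_eq h2 hr hinj hPlt, ?_, normalizer_eq h2 hr hinj⟩
  · intro c hc
    have hcP : c ∈ φ.range := by
      obtain ⟨v, -, rfl⟩ := (center_eq h2 hr hinj) ▸ hc
      exact ⟨v, rfl⟩
    exact ⟨⟨c, hcP⟩, mem_center_iff.2 fun g => Subtype.ext (mem_center_iff.1 hc g), rfl⟩
  · rintro _ ⟨c, hc, rfl⟩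
    rw [center_eq h2 hr hinj]
    exact mem_center_image hr hinj h2 c fun w =>
      (congrArg Subtype.val (mem_center_iff.1 hc ⟨φ w, ⟨w, rfl⟩⟩)).symm
  · rw [center_eq h2 hr hinj, card_image φ hinj, W.card_ZZ]
  · haveI hn : ((center S).subgroupOf (normalizer (φ.range : Set S))).Normal :=
      ⟨fun x hx g => by
        have hx' : (x : S) ∈ center S := hx
        change ((g : S) * x * (g : S)⁻¹) ∈ center S
        rw [mem_center_iff.1 hx' g, mul_inv_cancel_right]; exact hx'⟩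
    obtain ⟨q⟩ := quotient_equiv h2 hr hinj hPlt
    exact ⟨hn, T, ⟨q.symm.trans e'⟩⟩

end CfsgLib.PGroup.DihedralWreath
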